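import Groth.Agent.ProjPoint.Basic
import Groth.Agent.ProjUniv.Chart
import Groth.Agent.S3557
import Mathlib

/-!
# The projective line over a field: charts are polynomial rings, dimension one
-/

set_option autoImplicit false
universe u
open CategoryTheory AlgebraicGeometry HomogeneousLocalization

namespace Groth.Agent.CurveModel

variable (k : Type u) [Field k]

local notation "𝒫" => CohB1.polyGrading 1 k

lemma isIntegral_projLine : AlgebraicGeometry.IsIntegral (Proj 𝒫) := by
  refine (Groth.Agent.S3557.result (R := k) (A := MvPolynomial (Fin 2) k) 𝒫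
    (fun f _ hf => hf.eq_zero)).mpr
    ⟨⟨MvPolynomial.X 0, ?_, MvPolynomial.X_ne_zero 0⟩, fun f _ g _ h => mul_eq_zero.mp h⟩
  exact HomogeneousIdeal.mem_irrelevant_of_mem 𝒫 one_pos (ProjPoint.X_mem 0)

/-- A chart ring is generated by the coordinate. -/
lemma chart_surjective (i l : Fin 2) (hl : l ≠ i) :
    Function.Surjective (Polynomial.eval₂RingHom (ProjPoint.chartBase (n := 1) (R := k) i)
      (ProjPoint.coord i l)) := by
  intro z
  have hone : MvPolynomial.eval₂Hom (ProjPoint.chartBase (n := 1) (R := k) i) (ProjPoint.coord i)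
      (MvPolynomial.X i) = 1 := by
    rw [MvPolynomial.eval₂Hom_X']; exact ProjPoint.coord_self i
  obtain ⟨m, f, hf, rfl⟩ := Away.mk_surjective 𝒫 (ProjPoint.X_mem i) z
  have hid := RingHom.congr_fun (ProjPoint.evalAway_coord (R := k) (n := 1) i (hone ▸ isUnit_one))
    (Away.mk 𝒫 (ProjPoint.X_mem i) m f hf)
  have h2 := ProjPoint.evalAway_mk (ProjPoint.chartBase (n := 1) (R := k) i) (ProjPoint.coord i)
    (hone ▸ isUnit_one) (ProjPoint.X_mem i) m f hf
  rw [RingHom.id_apply] at hid
  rw [hid, hone, one_pow, mul_one] at h2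
  rw [h2]
  refine ⟨MvPolynomial.eval₂Hom Polynomial.C (fun q => if q = i then 1 else Polynomial.X) f, ?_⟩
  rw [← RingHom.comp_apply]
  refine RingHom.congr_fun ?_ f
  refine MvPolynomial.ringHom_ext (fun r => by simp) fun q => ?_
  rw [RingHom.comp_apply, MvPolynomial.eval₂Hom_X', MvPolynomial.eval₂Hom_X']
  split_ifs with hq
  · rw [map_one, hq, ProjPoint.coord_self]
  · have : q = l := by omega
    subst this
    simp

variable {K : Type u} [Field K] [Algebra k K]

/-- Evaluation of a chart at a point. -/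
noncomputable def evalChart (v : Fin 2 → K) (i : Fin 2) (hi : IsUnit (v i)) :
    Away 𝒫 (MvPolynomial.X i) →+* K :=
  ProjPoint.evalAway (algebraMap k K) v (MvPolynomial.X i) (ProjPoint.isUnit_eval_X hi)

lemma evalChart_comp (v : Fin 2 → K) (i l : Fin 2) (hi : v i = 1) :
    (evalChart k v i (hi ▸ isUnit_one)).comp (Polynomial.eval₂RingHom
      (ProjPoint.chartBase (n := 1) (R := k) i) (ProjPoint.coord i l)) =
      (Polynomial.aeval (v l)).toRingHom := by
  refine Polynomial.ringHom_ext (fun r => ?_) ?_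
  · simp only [RingHom.comp_apply, Polynomial.coe_eval₂RingHom, Polynomial.eval₂_C, AlgHom.toRingHom_eq_coe,
      RingHom.coe_coe, Polynomial.aeval_C]
    exact RingHom.congr_fun (ProjUniv.evalAway_chartBase (algebraMap k K) v i (ProjPoint.isUnit_eval_X (hi ▸ isUnit_one))) r
  · simp only [RingHom.comp_apply, Polynomial.coe_eval₂RingHom, Polynomial.eval₂_X, AlgHom.toRingHom_eq_coe,
      RingHom.coe_coe, Polynomial.aeval_X]
    exact ProjUniv.evalAway_coord (algebraMap k K) v i l (ProjPoint.isUnit_eval_X (hi ▸ isUnit_one)) hi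

lemma chart_bijective (i l : Fin 2) (hl : l ≠ i) (v : Fin 2 → K) (hi : v i = 1)
    (hv : Transcendental k (v l)) :
    Function.Bijective (Polynomial.eval₂RingHom (ProjPoint.chartBase (n := 1) (R := k) i)
      (ProjPoint.coord i l)) := by
  refine ⟨fun p q h => ?_, chart_surjective k i l hl⟩
  have h2 := congrArg (evalChart k v i (hi ▸ isUnit_one)) h
  rw [← RingHom.comp_apply, ← RingHom.comp_apply, evalChart_comp k v i l hi] at h2
  exact transcendental_iff_injective.mp hv h2

lemma evalChart_injective (i l : Fin 2) (hl : l ≠ i) (v : Fin 2 → K) (hi : v i = 1)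
    (hv : Transcendental k (v l)) : Function.Injective (evalChart k v i (hi ▸ isUnit_one)) := by
  intro a b h
  obtain ⟨p, rfl⟩ := chart_surjective k i l hl a
  obtain ⟨q, rfl⟩ := chart_surjective k i l hl b
  rw [← RingHom.comp_apply, ← RingHom.comp_apply, evalChart_comp k v i l hi] at h
  rw [transcendental_iff_injective.mp hv h]

/-- Closed points of the projective line have one-dimensional local rings. -/
theorem ringKrullDim_stalk_eq_one (x₀ : K) (hx₀ : Transcendental k x₀)
    (x : Proj 𝒫) (hx : IsClosed ({x} : Set (Proj 𝒫))) :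
    ringKrullDim ((Proj 𝒫).presheaf.stalk x) = 1 := by
  have := isIntegral_projLine k
  obtain ⟨i, hxi⟩ := TopologicalSpace.Opens.mem_iSup.mp
    ((ProjPoint.iSup_basicOpen_X (n := 1) (R := k)).ge (TopologicalSpace.Opens.mem_top x))
  obtain ⟨l, v, hl, hi, hv⟩ : ∃ (l : Fin 2) (v : Fin 2 → K), l ≠ i ∧ v i = 1 ∧ Transcendental k (v l) :=
    have hl : i + 1 ≠ i := (by decide : ∀ j : Fin 2, j + 1 ≠ j) i
    ⟨i + 1, Function.update (fun _ => x₀) i 1, hl,
      Function.update_self .., by rw [Function.update_of_ne hl]; exact hx₀⟩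
  let B := CommRingCat.of (Away 𝒫 (MvPolynomial.X i))
  let e := RingEquiv.ofBijective _ (chart_bijective k i l hl v hi hv)
  have : IsDomain B := MulEquiv.isDomain (Polynomial k) e.symm.toMulEquiv
  have : IsPrincipalIdealRing B := IsPrincipalIdealRing.of_surjective e.toRingHom e.surjective
  let ι : Spec B ⟶ Proj 𝒫 := Proj.awayι 𝒫 (MvPolynomial.X i) (ProjPoint.X_mem i) one_pos
  obtain ⟨p, rfl⟩ : x ∈ Set.range ι := by
    rw [← Scheme.Hom.coe_opensRange, Proj.opensRange_awayι]; exact hxi
  have hpne : p.asIdeal ≠ ⊥ := by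
    intro hbot
    have hgen : ι p = genericPoint (Proj 𝒫) := by
      rw [← genericPoint_eq_of_isOpenImmersion ι, genericPoint_eq_bot_of_affine]
      exact congrArg ι (PrimeSpectrum.ext hbot)
    obtain ⟨M, hM⟩ := Ideal.exists_maximal B
    have hall : ι ⟨M, hM.isPrime⟩ ∈ ({ι p} : Set (Proj 𝒫)) :=
      (hgen ▸ (genericPoint_spec (Proj 𝒫)).specializes trivial : ι p ⤳ _).mem_closed hx rfl
    have hMp : M = p.asIdeal := congrArg PrimeSpectrum.asIdeal (ι.isOpenEmbedding.injective hall)
    have hMb : M = ⊥ := hMp.trans hbot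
    exact Polynomial.not_isField k (MulEquiv.isField (Ring.isField_iff_maximal_bot.mpr (hMb ▸ hM)) e.toMulEquiv)
  let L := Localization.AtPrime p.asIdeal
  have : IsDiscreteValuationRing L :=
    IsLocalization.AtPrime.isDiscreteValuationRing_of_dedekind_domain B hpne L
  have e1 : (Proj 𝒫).presheaf.stalk (ι p) ≃+* L :=
    (asIso (ι.stalkMap p)).commRingCatIsoToRingEquiv.trans
      (StructureSheaf.stalkIso B p).toRingEquiv.symm
  rw [ringKrullDim_eq_of_ringEquiv e1]
  exact IsPrincipalIdealRing.ringKrullDim_eq_one L (IsLocalization.AtPrime.not_isField B hpne L)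

end Groth.Agent.CurveModel
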