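import Mathlib

/-!
# Evaluation of sections at a field-valued point; the map of function fields
-/

set_option autoImplicit false
universe u
open CategoryTheory AlgebraicGeometry

namespace Groth.Agent.CurveModel

variable {K : Type u} [Field K] {X Y : Scheme.{u}}

/-- Evaluation of a section at a `K`-point. -/
noncomputable def ev (j : Spec (CommRingCat.of K) ⟶ X) (U : X.Opens)
    (h : j (IsLocalRing.closedPoint K) ∈ U) : Γ(X, U) →+* K :=
  (X.presheaf.germ U _ h ≫ Scheme.stalkClosedPointTo j).hom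

lemma ev_comp (j : Spec (CommRingCat.of K) ⟶ X) (f : X ⟶ Y) (U : Y.Opens)
    (h : (j ≫ f) (IsLocalRing.closedPoint K) ∈ U) (a : Γ(Y, U)) :
    ev (j ≫ f) U h a = ev j (f ⁻¹ᵁ U) h (f.app U a) := by
  show (Y.presheaf.germ U _ h ≫ Scheme.stalkClosedPointTo (j ≫ f)).hom a =
    (f.app U ≫ X.presheaf.germ (f ⁻¹ᵁ U) _ h ≫ Scheme.stalkClosedPointTo j).hom a
  rw [Scheme.stalkClosedPointTo_comp]
  refine congrArg (fun φ : Γ(Y, U) ⟶ CommRingCat.of K => φ.hom a) ?_
  erw [Scheme.Hom.germ_stalkMap_assoc]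
  rfl

lemma ev_eq_app (j : Spec (CommRingCat.of K) ⟶ X) (U : X.Opens)
    (h : j (IsLocalRing.closedPoint K) ∈ U) :
    ev j U h = (j.app U ≫ ((Spec (CommRingCat.of K)).presheaf.mapIso
      (eqToIso (Scheme.preimage_eq_top_of_closedPoint_mem j h).symm).op ≪≫
        Scheme.ΓSpecIso (CommRingCat.of K)).hom).hom :=
  congrArg CommRingCat.Hom.hom (Scheme.germ_stalkClosedPointTo j U h)

lemma ev_specMap {R : CommRingCat.{u}} (ψ : R ⟶ CommRingCat.of K) (a : R) :
    ev (Spec.map ψ) ⊤ trivial ((Scheme.ΓSpecIso R).inv a) = ψ a := by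
  have h := congrArg (fun φ => φ.hom ((Scheme.ΓSpecIso R).inv a)) (Scheme.germ_stalkClosedPointTo_Spec ψ)
  refine h.trans ?_
  simp

lemma ev_openImmersion_surj (j : Spec (CommRingCat.of K) ⟶ X) (f : X ⟶ Y) [IsOpenImmersion f]
    (b : Γ(X, ⊤)) :
    ∃ a : Γ(Y, f.opensRange), ∀ h, ev (j ≫ f) f.opensRange h a = ev j ⊤ trivial b := by
  have hU : f ⁻¹ᵁ f.opensRange = ⊤ := f.preimage_opensRange
  have := f.isIso_app f.opensRange le_rfl
  obtain ⟨a, ha⟩ := (ConcreteCategory.bijective_of_isIso (f.app f.opensRange)).2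
    (X.presheaf.map (eqToHom hU).op b)
  refine ⟨a, fun h => ?_⟩
  rw [ev_comp, ha]
  show (X.presheaf.map (eqToHom hU).op ≫ X.presheaf.germ _ _ _ ≫ Scheme.stalkClosedPointTo j).hom b = _
  rw [TopCat.Presheaf.germ_res_assoc]
  rfl

variable [IsIntegral X] (j : Spec (CommRingCat.of K) ⟶ X)
  (hj : j (IsLocalRing.closedPoint K) = genericPoint X)

/-- The map of function fields of a generic point. -/
noncomputable def theta : X.functionField →+* K :=
  (X.presheaf.stalkSpecializes (specializes_of_eq hj) ≫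
    Scheme.stalkClosedPointTo j).hom

lemma theta_germ (U : X.Opens) (hgen : genericPoint X ∈ U) (a : Γ(X, U)) :
    theta j hj (X.presheaf.germ U _ hgen a) = ev j U (hj ▸ hgen) a := by
  show (X.presheaf.germ U _ hgen ≫ X.presheaf.stalkSpecializes _ ≫ Scheme.stalkClosedPointTo j).hom a = _
  rw [← Category.assoc, TopCat.Presheaf.germ_stalkSpecializes]
  rfl

lemma specMap_theta :
    j = Spec.map (CommRingCat.ofHom (theta j hj)) ≫ X.fromSpecStalk (genericPoint X) := by
  conv_lhs => rw [← Scheme.Spec_stalkClosedPointTo_fromSpecStalk (R := CommRingCat.of K) j]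
  rw [show CommRingCat.ofHom (theta j hj) = X.presheaf.stalkSpecializes _ ≫ Scheme.stalkClosedPointTo j
    from rfl, Spec.map_comp, Category.assoc, Scheme.SpecMap_stalkSpecializes_fromSpecStalk]

/-- Compatibility with the base field. -/
lemma theta_base {k : Type u} [Field k] (π : X ⟶ Spec (CommRingCat.of k)) (α : k →+* K)
    (hπ : j ≫ π = Spec.map (CommRingCat.ofHom α)) (c : k) :
    theta j hj (X.presheaf.germ ⊤ _ trivial (π.appTop ((Scheme.ΓSpecIso (CommRingCat.of k)).inv c))) = α c := by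
  rw [theta_germ j hj ⊤ trivial]
  have h1 := ev_comp j π ⊤ trivial ((Scheme.ΓSpecIso (CommRingCat.of k)).inv c)
  have h2 := ev_specMap (CommRingCat.ofHom α) c
  simp only [← hπ] at h2
  exact h1.symm.trans h2

end Groth.Agent.CurveModel
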